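import Mathlib

/-!
# Project ORE (S2444): every element of `SL_n(F)`, `F` finite, is a commutator.

Definitions only.  `SolP g D E p` says: there are linear automorphisms `A y` of `V` with
`A * g = y * A * y⁻¹` (so that `g = A⁻¹ * (y * A * y⁻¹) = [A⁻¹, y]`), `det A = D`, `det y = E`
and `p(A) = 0`.  `p = 0` carries no information.
-/

set_option autoImplicit false

namespace Cfsg.Agent.Lib.Helper19.ORE

open Polynomial

universe u v w v₁ v₂

section
variable {F : Type u} [Field F]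

/-- `A * g = y * A * y⁻¹`, `det A = D`, `det y = E`, `p(A) = 0`. -/
def SolP {V : Type v} [AddCommGroup V] [Module F V] (g : V ≃ₗ[F] V) (D E : Fˣ) (p : F[X]) : Prop :=
  ∃ A y : V ≃ₗ[F] V, A * g = y * A * y⁻¹ ∧ LinearEquiv.det A = D ∧ LinearEquiv.det y = E ∧
    aeval (A : V →ₗ[F] V) p = 0

/-- all determinants are available (with annihilating polynomial `p`). -/
def FlexP {V : Type v} [AddCommGroup V] [Module F V] (g : V ≃ₗ[F] V) (p : F[X]) : Prop :=
  ∀ D E : Fˣ, SolP g D E p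

/-- all determinants are available. -/
def Flex {V : Type v} [AddCommGroup V] [Module F V] (g : V ≃ₗ[F] V) : Prop := FlexP g 0

/-- `e` intertwines `g` and `g'`. -/
def Conj {V : Type v} {V' : Type w} [AddCommGroup V] [Module F V] [AddCommGroup V'] [Module F V']
    (e : V ≃ₗ[F] V') (g : V ≃ₗ[F] V) (g' : V' ≃ₗ[F] V') : Prop :=
  ∀ x, e (g x) = g' (e x)

/-- In suitable coordinates `V ≃ X₁ × X₂` the map `g` is the block matrix
`[[g₁, b], [c, g₂ + c g₁⁻¹ b]]`: its compression to `X₁` is `g₁` and the Schur complement of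
that block is `g₂`. -/
def Split {V : Type v} {X₁ : Type v₁} {X₂ : Type v₂} [AddCommGroup V] [Module F V]
    [AddCommGroup X₁] [Module F X₁] [AddCommGroup X₂] [Module F X₂]
    (g : V ≃ₗ[F] V) (g₁ : X₁ ≃ₗ[F] X₁) (g₂ : X₂ ≃ₗ[F] X₂) : Prop :=
  ∃ (e : V ≃ₗ[F] X₁ × X₂) (b : X₂ →ₗ[F] X₁) (c : X₁ →ₗ[F] X₂),
    ∀ x₁ x₂, e (g (e.symm (x₁, x₂))) = (g₁ x₁ + b x₂, c x₁ + (g₂ x₂ + c (g₁.symm (b x₂))))

/-- `g` has a cyclic vector. -/
def IsCyc {V : Type v} [AddCommGroup V] [Module F V] (g : V ≃ₗ[F] V) : Prop :=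
  ∃ v : V, ∀ x : V, ∃ p : F[X], x = aeval (g : V →ₗ[F] V) p v

/-- `g` is not a scalar. -/
def NonScalar {V : Type v} [AddCommGroup V] [Module F V] (g : V ≃ₗ[F] V) : Prop :=
  ¬ ∃ c : F, ∀ x, g x = c • x

/-- multiplication by the unit `κ` on the line `F`. -/
noncomputable def smulE (κ : Fˣ) : F ≃ₗ[F] F := LinearEquiv.smulOfUnit κ

/-- `g` is given by the matrix `M` in suitable coordinates. -/
def Rep {V : Type v} [AddCommGroup V] [Module F V] {k : ℕ} (g : V ≃ₗ[F] V)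
    (M : Matrix (Fin k) (Fin k) F) : Prop :=
  ∃ e : V ≃ₗ[F] (Fin k → F), ∀ x, e (g x) = M.mulVec (e x)

/-- matrix form of `SolP`. -/
def MSol {k : ℕ} (M : Matrix (Fin k) (Fin k) F) (D E : F) (p : F[X]) : Prop :=
  ∃ A Ai Y Yi : Matrix (Fin k) (Fin k) F, A * Ai = 1 ∧ Y * Yi = 1 ∧ A * M = Y * A * Yi ∧
    A.det = D ∧ Y.det = E ∧ aeval A p = 0

/-- block diagonal matrix on `Fin (k + l)`. -/
def blk {k l : ℕ} (M : Matrix (Fin k) (Fin k) F) (M' : Matrix (Fin l) (Fin l) F) :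
    Matrix (Fin (k + l)) (Fin (k + l)) F :=
  Matrix.reindex finSumFinEquiv finSumFinEquiv (Matrix.fromBlocks M 0 0 M')

/-- companion matrix of `X² - t X + δ` (columns are the images of `v`, `g v`). -/
def comp2 (t δ : F) : Matrix (Fin 2) (Fin 2) F := !![0, -δ; 1, t]

/-- the `1 × 1` matrix. -/
def mat1 (c : F) : Matrix (Fin 1) (Fin 1) F := !![c]

/-- twisted cyclic shift: `e_j ↦ e_(j+1)` for `j + 1 < n`, and `e_(n-1) ↦ c • e_0`. -/
def tshift (n : ℕ) (c : F) : Matrix (Fin n) (Fin n) F :=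
  fun i j => if (j : ℕ) + 1 = (i : ℕ) then 1 else if (i : ℕ) = 0 ∧ (j : ℕ) + 1 = n then c else 0

end

end Cfsg.Agent.Lib.Helper19.ORE
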