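import Mathlib
import Cfsg.Agent.Lib.Helper19.ORE.Defs

/-!
# Project ORE (S2444): the definitions of sections Two / Three of the skeleton
(`IsB`, `Good2`, `Q2`, `IsK`, `Q3`), verbatim.
-/

set_option autoImplicit false

namespace Cfsg.Agent.Lib.Helper19.ORE

open Polynomial Module

section Two

/-- `B`: the bad piece `J₂` (cyclic of dimension 2, `g² = 1`). -/
def IsB {V : Type} [AddCommGroup V] [Module (ZMod 2) V] (g : V ≃ₗ[ZMod 2] V) : Prop :=
  Rep g (comp2 (0 : ZMod 2) 1)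

/-- solved (all determinants are 1 over `ZMod 2`). -/
def Good2 {V : Type} [AddCommGroup V] [Module (ZMod 2) V] (g : V ≃ₗ[ZMod 2] V) : Prop :=
  SolP g 1 1 0

/-- the induction invariant for `q = 2`. -/
def Q2 {V : Type} [AddCommGroup V] [Module (ZMod 2) V] (g : V ≃ₗ[ZMod 2] V) : Prop :=
  Subsingleton V ∨ IsB g ∨
    (Good2 g ∧ ∀ (W : Type) [AddCommGroup W] [Module (ZMod 2) W] [FiniteDimensional (ZMod 2) W]
      (b : W ≃ₗ[ZMod 2] W), IsB b → Good2 (g.prodCongr b))

end Two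

section Three

/-- `K`: the two pieces `± J₂` (only weakly solvable alone). -/
def IsK {V : Type} [AddCommGroup V] [Module (ZMod 3) V] (g : V ≃ₗ[ZMod 3] V) : Prop :=
  ∃ t : ZMod 3, t ≠ 0 ∧ Rep g (comp2 t 1)

/-- the induction invariant for `q = 3`. -/
def Q3 {V : Type} [AddCommGroup V] [Module (ZMod 3) V] (g : V ≃ₗ[ZMod 3] V) : Prop :=
  (LinearEquiv.det g = 1 → Subsingleton V ∨ IsK g ∨ Flex g) ∧
  (LinearEquiv.det g = -1 → ∀ (W : Type) [AddCommGroup W] [Module (ZMod 3) W]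
      [FiniteDimensional (ZMod 3) W] (s : W ≃ₗ[ZMod 3] W), IsCyc s → LinearEquiv.det s = -1 →
        Flex (g.prodCongr s))

end Three

end Cfsg.Agent.Lib.Helper19.ORE
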