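import Mathlib
import Cfsg.Agent.Lib.Helper19.ORE.Defs

set_option autoImplicit false

namespace Cfsg.Agent.Lib.Helper19.ORE

open Polynomial

theorem orex_hp4 {k : ℕ} {R : Type*} [Field R] (A : Matrix (Fin k) (Fin k) R)
    (h : A * A * A * A = 1) : aeval A (X ^ 4 - 1 : R[X]) = 0 := by
  have : A ^ 4 = 1 := by rw [← h]; simp [pow_succ]
  simp [this]

theorem orex_det2 {k : ℕ} (A Ai : Matrix (Fin k) (Fin k) (ZMod 2)) (h : A * Ai = 1) :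
    A.det = 1 := by
  have h1 : A.det * Ai.det = 1 := by rw [← Matrix.det_mul, h, Matrix.det_one]
  have h2 : A.det ≠ 0 := by
    intro h0; rw [h0, zero_mul] at h1; exact zero_ne_one h1
  revert h2
  generalize A.det = x
  revert x
  decide

theorem orex_mk2 {k : ℕ} (M A Ai Y Yi : Matrix (Fin k) (Fin k) (ZMod 2)) (p : (ZMod 2)[X])
    (h1 : A * Ai = 1) (h2 : Y * Yi = 1) (h3 : A * M = Y * A * Yi) (hp : aeval A p = 0) :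
    MSol M 1 1 p :=
  ⟨A, Ai, Y, Yi, h1, h2, h3, orex_det2 A Ai h1, orex_det2 Y Yi h2, hp⟩

set_option maxRecDepth 1000000 in
theorem msol2_T : MSol (comp2 (1 : ZMod 2) 1) 1 1 0 :=
  orex_mk2 _ (!![0, 1; 1, 0]) (!![0, 1; 1, 0]) (!![1, 0; 1, 1]) (!![1, 0; 1, 1]) _ (by decide) (by decide) (by decide) (map_zero _)

set_option maxRecDepth 1000000 in
theorem msol2_LB : MSol (blk (mat1 (1 : ZMod 2)) (comp2 0 1)) 1 1 (X ^ 4 - 1) :=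
  orex_mk2 _ (!![1, 0, 0; 1, 0, 1; 1, 1, 0]) (!![1, 0, 0; 1, 0, 1; 1, 1, 0]) (!![1, 1, 1; 0, 1, 0; 0, 0, 1]) (!![1, 1, 1; 0, 1, 0; 0, 0, 1]) _ (by decide) (by decide) (by decide) (orex_hp4 _ (by decide))

set_option maxRecDepth 1000000 in
theorem msol2_BB : MSol (blk (comp2 (0 : ZMod 2) 1) (comp2 0 1)) 1 1 0 :=
  orex_mk2 _ (!![1, 1, 0, 0; 1, 0, 0, 1; 1, 0, 0, 0; 0, 1, 1, 0]) (!![0, 0, 1, 0; 1, 0, 1, 0; 1, 0, 1, 1; 0, 1, 1, 0]) (!![1, 0, 1, 0; 1, 1, 1, 0; 0, 0, 1, 1; 0, 0, 1, 0]) (!![1, 0, 0, 1; 1, 1, 0, 0; 0, 0, 0, 1; 0, 0, 1, 1]) _ (by decide) (by decide) (by decide) (map_zero _)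

set_option maxRecDepth 1000000 in
theorem msol2_TB : MSol (blk (comp2 (1 : ZMod 2) 1) (comp2 0 1)) 1 1 0 :=
  orex_mk2 _ (!![0, 1, 0, 0; 1, 0, 1, 0; 1, 1, 0, 0; 0, 1, 1, 1]) (!![1, 0, 1, 0; 1, 0, 0, 0; 1, 1, 1, 0; 0, 1, 1, 1]) (!![1, 0, 0, 1; 1, 0, 1, 0; 1, 1, 0, 1; 0, 0, 1, 0]) (!![0, 1, 0, 1; 1, 0, 1, 0; 0, 0, 0, 1; 1, 1, 0, 1]) _ (by decide) (by decide) (by decide) (map_zero _)

set_option maxRecDepth 1000000 in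
theorem msol2_BBB : MSol (blk (blk (comp2 (0 : ZMod 2) 1) (comp2 0 1)) (comp2 0 1)) 1 1 0 :=
  orex_mk2 _ (!![1, 0, 0, 1, 1, 0; 0, 1, 0, 0, 0, 1; 1, 0, 0, 1, 1, 1; 0, 0, 0, 1, 0, 1; 1, 1, 0, 1, 0, 1; 0, 1, 1, 0, 1, 0]) (!![1, 1, 1, 1, 1, 0; 1, 1, 1, 0, 0, 0; 0, 0, 1, 0, 1, 1; 1, 0, 1, 1, 0, 0; 1, 1, 0, 0, 1, 0; 1, 0, 1, 0, 0, 0]) (!![1, 1, 0, 0, 0, 0; 1, 1, 1, 0, 0, 0; 0, 0, 1, 1, 1, 0; 1, 0, 1, 0, 1, 1; 1, 0, 0, 0, 0, 0; 0, 0, 0, 0, 0, 1]) (!![0, 0, 0, 0, 1, 0; 1, 0, 0, 0, 1, 0; 1, 1, 0, 0, 0, 0; 0, 0, 1, 1, 1, 1; 1, 1, 0, 1, 1, 1; 0, 0, 0, 0, 0, 1]) _ (by decide) (by decide) (by decide) (map_zero _)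

end Cfsg.Agent.Lib.Helper19.ORE
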