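import Mathlib
import Cfsg.Agent.Lib.Helper19.ORE.Defs

set_option autoImplicit false

namespace Cfsg.Agent.Lib.Helper19.ORE

open Polynomial

theorem orex3_hp4 {k : ℕ} {R : Type*} [Field R] (A : Matrix (Fin k) (Fin k) R)
    (h : A * A * A * A = 1) : aeval A (X ^ 4 - 1 : R[X]) = 0 := by
  have : A ^ 4 = 1 := by rw [← h]; simp [pow_succ]
  simp [this]

theorem orex3_units (D : (ZMod 3)ˣ) : D = 1 ∨ D = -1 := by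
  revert D; decide

set_option maxRecDepth 1000000 in
theorem msol3_j (D E : (ZMod 3)ˣ) : MSol (comp2 (0 : ZMod 3) 1) D E 0 := by
  rcases orex3_units D with rfl | rfl <;> rcases orex3_units E with rfl | rfl
  · exact ⟨!![0, 1; 2, 2], !![2, 2; 1, 0], !![1, 2; 0, 1], !![1, 1; 0, 1], by decide, by decide, by decide, by decide, by decide, map_zero _⟩
  · exact ⟨!![1, 1; 1, 2], !![2, 2; 2, 1], !![2, 0; 0, 1], !![2, 0; 0, 1], by decide, by decide, by decide, by decide, by decide, map_zero _⟩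
  · exact ⟨!![0, 1; 1, 0], !![0, 1; 1, 0], !![1, 1; 1, 2], !![2, 2; 2, 1], by decide, by decide, by decide, by decide, by decide, map_zero _⟩
  · exact ⟨!![0, 1; 1, 0], !![0, 1; 1, 0], !![1, 1; 2, 1], !![2, 1; 2, 2], by decide, by decide, by decide, by decide, by decide, map_zero _⟩

set_option maxRecDepth 1000000 in
theorem msol3_K (t : ZMod 3) (ht : t ≠ 0) : ∃ D E : (ZMod 3)ˣ, MSol (comp2 t 1) D E 0 := by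
  fin_cases t
  · exact absurd rfl ht
  · exact ⟨-1, -1, ⟨!![0, 1; 1, 0], !![0, 1; 1, 0], !![0, 1; 1, 2], !![1, 1; 1, 0], by decide, by decide, by decide, by decide, by decide, map_zero _⟩⟩
  · exact ⟨-1, -1, ⟨!![0, 1; 1, 0], !![0, 1; 1, 0], !![2, 0; 2, 1], !![2, 0; 2, 1], by decide, by decide, by decide, by decide, by decide, map_zero _⟩⟩

set_option maxRecDepth 1000000 in
theorem msol3_KK (t t' : ZMod 3) (ht : t ≠ 0) (ht' : t' ≠ 0) (D E : (ZMod 3)ˣ) :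
    MSol (blk (comp2 t 1) (comp2 t' 1)) D E 0 := by
  fin_cases t <;> fin_cases t'
  all_goals first | exact absurd rfl ht | exact absurd rfl ht' | skip
  -- t = 1, t' = 1
  · rcases orex3_units D with rfl | rfl <;> rcases orex3_units E with rfl | rfl
    · exact ⟨!![1, 1, 2, 1; 0, 0, 2, 1; 1, 2, 2, 2; 1, 2, 0, 2], !![2, 0, 1, 1; 2, 2, 2, 2; 0, 0, 2, 1; 0, 1, 2, 1], !![1, 0, 0, 0; 2, 0, 2, 2; 0, 1, 2, 2; 0, 0, 0, 1], !![1, 0, 0, 0; 2, 2, 1, 0; 2, 2, 0, 2; 0, 0, 0, 1], by decide, by decide, by decide, by decide, by decide, map_zero _⟩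
    · exact ⟨!![1, 1, 1, 1; 1, 0, 1, 0; 0, 2, 1, 2; 0, 2, 0, 1], !![2, 2, 2, 0; 2, 1, 0, 1; 1, 2, 1, 0; 2, 1, 0, 2], !![0, 1, 1, 1; 1, 1, 0, 2; 1, 0, 1, 2; 0, 0, 1, 1], !![1, 2, 2, 0; 1, 0, 0, 2; 1, 2, 1, 2; 2, 1, 2, 2], by decide, by decide, by decide, by decide, by decide, map_zero _⟩
    · exact ⟨!![2, 0, 0, 1; 1, 2, 1, 0; 1, 1, 0, 2; 1, 2, 2, 0], !![1, 2, 1, 2; 1, 0, 1, 0; 0, 2, 0, 1; 2, 2, 1, 2], !![2, 1, 2, 2; 0, 2, 1, 1; 0, 0, 0, 2; 0, 0, 1, 0], !![2, 2, 0, 0; 0, 2, 2, 1; 0, 0, 0, 1; 0, 0, 2, 0], by decide, by decide, by decide, by decide, by decide, map_zero _⟩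
    · exact ⟨!![2, 0, 0, 1; 1, 2, 1, 0; 1, 1, 0, 2; 1, 2, 2, 0], !![1, 2, 1, 2; 1, 0, 1, 0; 0, 2, 0, 1; 2, 2, 1, 2], !![1, 0, 2, 1; 2, 2, 1, 0; 0, 2, 1, 1; 0, 0, 0, 1], !![0, 2, 1, 2; 2, 2, 0, 1; 2, 2, 1, 0; 0, 0, 0, 1], by decide, by decide, by decide, by decide, by decide, map_zero _⟩
  -- t = 1, t' = 2
  · rcases orex3_units D with rfl | rfl <;> rcases orex3_units E with rfl | rfl
    · exact ⟨!![1, 2, 0, 1; 2, 1, 0, 0; 1, 0, 1, 0; 0, 1, 2, 1], !![1, 2, 2, 2; 1, 0, 2, 2; 2, 1, 2, 1; 1, 1, 0, 0], !![0, 2, 2, 1; 1, 0, 1, 0; 2, 2, 2, 0; 0, 0, 0, 1], !![1, 0, 2, 2; 0, 2, 2, 0; 2, 1, 1, 1; 0, 0, 0, 1], by decide, by decide, by decide, by decide, by decide, map_zero _⟩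
    · exact ⟨!![1, 2, 0, 1; 2, 1, 0, 0; 1, 0, 1, 0; 0, 1, 2, 1], !![1, 2, 2, 2; 1, 0, 2, 2; 2, 1, 2, 1; 1, 1, 0, 0], !![0, 1, 2, 1; 2, 1, 0, 1; 2, 2, 1, 2; 0, 0, 1, 1], !![2, 0, 2, 0; 0, 2, 1, 2; 1, 1, 2, 0; 2, 2, 1, 1], by decide, by decide, by decide, by decide, by decide, map_zero _⟩
    · exact ⟨!![1, 2, 2, 2; 2, 0, 1, 0; 0, 1, 2, 2; 0, 1, 1, 2], !![0, 2, 1, 2; 1, 1, 1, 1; 0, 0, 1, 2; 1, 1, 2, 2], !![1, 1, 0, 2; 1, 2, 2, 0; 1, 2, 0, 1; 2, 1, 0, 0], !![2, 0, 2, 0; 2, 0, 2, 1; 0, 2, 0, 2; 0, 0, 1, 1], by decide, by decide, by decide, by decide, by decide, map_zero _⟩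
    · exact ⟨!![1, 2, 2, 2; 2, 0, 1, 0; 0, 1, 2, 2; 0, 1, 1, 2], !![0, 2, 1, 2; 1, 1, 1, 1; 0, 0, 1, 2; 1, 1, 2, 2], !![1, 1, 0, 1; 2, 2, 0, 0; 2, 0, 2, 2; 2, 1, 0, 2], !![1, 2, 0, 1; 2, 0, 0, 2; 1, 0, 2, 2; 1, 1, 0, 0], by decide, by decide, by decide, by decide, by decide, map_zero _⟩
  -- t = 2, t' = 1
  · rcases orex3_units D with rfl | rfl <;> rcases orex3_units E with rfl | rfl
    · exact ⟨!![0, 2, 0, 1; 0, 1, 2, 1; 0, 0, 0, 1; 2, 0, 1, 0], !![2, 2, 2, 2; 2, 0, 1, 0; 2, 2, 2, 0; 0, 0, 1, 0], !![1, 0, 1, 1; 2, 1, 2, 0; 1, 2, 0, 2; 0, 2, 0, 1], !![1, 1, 1, 0; 2, 2, 0, 1; 1, 0, 2, 1; 2, 2, 0, 2], by decide, by decide, by decide, by decide, by decide, map_zero _⟩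
    · exact ⟨!![0, 2, 1, 2; 1, 1, 1, 0; 0, 0, 0, 2; 0, 0, 1, 0], !![1, 1, 2, 1; 2, 0, 1, 1; 0, 0, 0, 1; 0, 0, 2, 0], !![0, 1, 0, 1; 0, 1, 0, 0; 1, 0, 0, 0; 2, 1, 2, 1], !![0, 0, 1, 0; 0, 1, 0, 0; 1, 0, 2, 2; 1, 2, 0, 0], by decide, by decide, by decide, by decide, by decide, map_zero _⟩
    · exact ⟨!![1, 2, 2, 2; 1, 0, 2, 2; 2, 0, 2, 1; 1, 1, 2, 1], !![2, 1, 1, 2; 2, 1, 0, 0; 0, 1, 1, 0; 2, 2, 0, 2], !![2, 1, 2, 0; 2, 0, 2, 1; 0, 1, 0, 1; 0, 0, 1, 2], !![0, 2, 0, 2; 2, 1, 2, 0; 1, 2, 2, 1; 1, 2, 2, 0], by decide, by decide, by decide, by decide, by decide, map_zero _⟩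
    · exact ⟨!![1, 2, 2, 2; 1, 0, 2, 2; 2, 0, 2, 1; 1, 1, 2, 1], !![2, 1, 1, 2; 2, 1, 0, 0; 0, 1, 1, 0; 2, 2, 0, 2], !![0, 0, 2, 1; 0, 2, 2, 2; 1, 2, 1, 2; 0, 0, 0, 1], !![2, 2, 1, 1; 1, 2, 0, 1; 2, 0, 0, 1; 0, 0, 0, 1], by decide, by decide, by decide, by decide, by decide, map_zero _⟩
  -- t = 2, t' = 2
  · rcases orex3_units D with rfl | rfl <;> rcases orex3_units E with rfl | rfl
    · exact ⟨!![2, 2, 0, 0; 1, 2, 0, 0; 0, 0, 0, 1; 2, 2, 1, 2], !![1, 2, 0, 0; 1, 1, 0, 0; 2, 0, 1, 1; 0, 0, 1, 0], !![0, 1, 2, 2; 1, 2, 2, 1; 0, 1, 1, 1; 0, 0, 0, 1], !![0, 1, 1, 1; 2, 0, 2, 0; 1, 0, 2, 2; 0, 0, 0, 1], by decide, by decide, by decide, by decide, by decide, map_zero _⟩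
    · exact ⟨!![2, 2, 0, 0; 1, 2, 0, 0; 0, 0, 0, 1; 2, 2, 1, 2], !![1, 2, 0, 0; 1, 1, 0, 0; 2, 0, 1, 1; 0, 0, 1, 0], !![2, 2, 0, 1; 2, 0, 2, 0; 0, 2, 0, 2; 0, 0, 1, 1], !![1, 1, 2, 1; 2, 1, 0, 1; 2, 1, 1, 2; 1, 2, 2, 2], by decide, by decide, by decide, by decide, by decide, map_zero _⟩
    · exact ⟨!![0, 1, 1, 0; 2, 1, 2, 2; 2, 0, 1, 1; 1, 2, 0, 0], !![0, 2, 2, 2; 0, 2, 2, 1; 1, 1, 1, 2; 2, 1, 2, 0], !![0, 1, 2, 2; 1, 2, 0, 0; 2, 1, 2, 0; 0, 0, 1, 1], !![1, 1, 0, 1; 1, 0, 0, 1; 0, 2, 2, 0; 0, 1, 1, 1], by decide, by decide, by decide, by decide, by decide, map_zero _⟩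
    · exact ⟨!![0, 1, 1, 0; 2, 1, 2, 2; 2, 0, 1, 1; 1, 2, 0, 0], !![0, 2, 2, 2; 0, 2, 2, 1; 1, 1, 1, 2; 2, 1, 2, 0], !![2, 1, 0, 0; 0, 1, 2, 0; 2, 0, 2, 1; 0, 0, 0, 1], !![1, 2, 1, 2; 2, 2, 1, 2; 2, 1, 1, 2; 0, 0, 0, 1], by decide, by decide, by decide, by decide, by decide, map_zero _⟩

set_option maxRecDepth 1000000 in
theorem msol3_W1 (D E : (ZMod 3)ˣ) :
    MSol (blk (mat1 (-1 : ZMod 3)) (mat1 (-1))) D E (X ^ 4 - 1) := by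
  rcases orex3_units D with rfl | rfl <;> rcases orex3_units E with rfl | rfl
  · exact ⟨!![0, 1; 2, 0], !![0, 2; 1, 0], !![2, 1; 1, 1], !![1, 2; 2, 2], by decide, by decide, by decide, by decide, by decide, orex3_hp4 _ (by decide)⟩
  · exact ⟨!![0, 1; 2, 0], !![0, 2; 1, 0], !![2, 0; 0, 1], !![2, 0; 0, 1], by decide, by decide, by decide, by decide, by decide, orex3_hp4 _ (by decide)⟩
  · exact ⟨!![0, 1; 1, 0], !![0, 1; 1, 0], !![0, 2; 1, 0], !![0, 1; 2, 0], by decide, by decide, by decide, by decide, by decide, orex3_hp4 _ (by decide)⟩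
  · exact ⟨!![0, 1; 1, 0], !![0, 1; 1, 0], !![2, 0; 0, 1], !![2, 0; 0, 1], by decide, by decide, by decide, by decide, by decide, orex3_hp4 _ (by decide)⟩

set_option maxRecDepth 1000000 in
theorem msol3_W2 (t : ZMod 3) (D E : (ZMod 3)ˣ) :
    MSol (blk (mat1 (-1 : ZMod 3)) (comp2 t (-1))) D E (X ^ 4 - 1) := by
  fin_cases t
  -- t = 0
  · rcases orex3_units D with rfl | rfl <;> rcases orex3_units E with rfl | rfl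
    · exact ⟨!![0, 0, 1; 1, 0, 0; 2, 1, 1], !![0, 1, 0; 2, 1, 1; 1, 0, 0], !![2, 2, 2; 0, 2, 1; 0, 0, 1], !![2, 1, 1; 0, 2, 1; 0, 0, 1], by decide, by decide, by decide, by decide, by decide, orex3_hp4 _ (by decide)⟩
    · exact ⟨!![0, 0, 1; 1, 0, 0; 2, 1, 1], !![0, 1, 0; 2, 1, 1; 1, 0, 0], !![1, 1, 1; 0, 1, 2; 0, 0, 2], !![1, 2, 2; 0, 1, 2; 0, 0, 2], by decide, by decide, by decide, by decide, by decide, orex3_hp4 _ (by decide)⟩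
    · exact ⟨!![0, 0, 1; 1, 0, 0; 2, 2, 2], !![0, 1, 0; 2, 2, 2; 1, 0, 0], !![2, 1, 1; 0, 2, 1; 0, 0, 1], !![2, 2, 2; 0, 2, 1; 0, 0, 1], by decide, by decide, by decide, by decide, by decide, orex3_hp4 _ (by decide)⟩
    · exact ⟨!![0, 0, 1; 1, 0, 0; 2, 2, 2], !![0, 1, 0; 2, 2, 2; 1, 0, 0], !![1, 2, 2; 0, 1, 2; 0, 0, 2], !![1, 1, 1; 0, 1, 2; 0, 0, 2], by decide, by decide, by decide, by decide, by decide, orex3_hp4 _ (by decide)⟩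
  -- t = 1
  · rcases orex3_units D with rfl | rfl <;> rcases orex3_units E with rfl | rfl
    · exact ⟨!![0, 0, 1; 2, 0, 1; 0, 2, 1], !![1, 2, 0; 1, 0, 2; 1, 0, 0], !![2, 0, 2; 0, 1, 2; 0, 0, 2], !![2, 0, 1; 0, 1, 2; 0, 0, 2], by decide, by decide, by decide, by decide, by decide, orex3_hp4 _ (by decide)⟩
    · exact ⟨!![0, 0, 1; 2, 0, 1; 0, 2, 1], !![1, 2, 0; 1, 0, 2; 1, 0, 0], !![1, 0, 1; 0, 2, 1; 0, 0, 1], !![1, 0, 2; 0, 2, 1; 0, 0, 1], by decide, by decide, by decide, by decide, by decide, orex3_hp4 _ (by decide)⟩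
    · exact ⟨!![0, 0, 1; 2, 0, 2; 0, 1, 2], !![2, 2, 0; 1, 0, 1; 1, 0, 0], !![2, 0, 1; 0, 1, 2; 0, 0, 2], !![2, 0, 2; 0, 1, 2; 0, 0, 2], by decide, by decide, by decide, by decide, by decide, orex3_hp4 _ (by decide)⟩
    · exact ⟨!![0, 0, 1; 2, 0, 2; 0, 1, 2], !![2, 2, 0; 1, 0, 1; 1, 0, 0], !![1, 0, 2; 0, 2, 1; 0, 0, 1], !![1, 0, 1; 0, 2, 1; 0, 0, 1], by decide, by decide, by decide, by decide, by decide, orex3_hp4 _ (by decide)⟩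
  -- t = 2
  · rcases orex3_units D with rfl | rfl <;> rcases orex3_units E with rfl | rfl
    · exact ⟨!![0, 0, 1; 0, 1, 0; 2, 1, 0], !![0, 1, 2; 0, 1, 0; 1, 0, 0], !![1, 2, 1; 2, 0, 0; 0, 0, 2], !![0, 2, 0; 2, 2, 2; 0, 0, 2], by decide, by decide, by decide, by decide, by decide, orex3_hp4 _ (by decide)⟩
    · exact ⟨!![0, 0, 1; 0, 1, 0; 2, 1, 0], !![0, 1, 2; 0, 1, 0; 1, 0, 0], !![2, 1, 2; 1, 0, 0; 0, 0, 1], !![0, 1, 0; 1, 1, 1; 0, 0, 1], by decide, by decide, by decide, by decide, by decide, orex3_hp4 _ (by decide)⟩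
    · exact ⟨!![0, 0, 1; 0, 2, 0; 2, 2, 0], !![0, 1, 2; 0, 2, 0; 1, 0, 0], !![1, 1, 2; 1, 0, 0; 0, 0, 2], !![0, 1, 0; 1, 2, 2; 0, 0, 2], by decide, by decide, by decide, by decide, by decide, orex3_hp4 _ (by decide)⟩
    · exact ⟨!![0, 0, 1; 0, 2, 0; 2, 2, 0], !![0, 1, 2; 0, 2, 0; 1, 0, 0], !![2, 2, 1; 2, 0, 0; 0, 0, 1], !![0, 2, 0; 2, 1, 1; 0, 0, 1], by decide, by decide, by decide, by decide, by decide, orex3_hp4 _ (by decide)⟩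

set_option maxRecDepth 1000000 in
theorem msol3_W3 (t t' : ZMod 3) (D E : (ZMod 3)ˣ) :
    MSol (blk (comp2 t (-1)) (comp2 t' (-1))) D E 0 := by
  fin_cases t <;> fin_cases t'
  -- t = 0, t' = 0
  · rcases orex3_units D with rfl | rfl <;> rcases orex3_units E with rfl | rfl
    · exact ⟨!![2, 1, 1, 2; 2, 0, 0, 1; 0, 1, 0, 1; 1, 1, 0, 2], !![0, 1, 1, 2; 0, 1, 0, 1; 1, 2, 2, 0; 0, 2, 1, 2], !![1, 1, 2, 2; 2, 1, 1, 0; 2, 1, 0, 0; 0, 0, 0, 1], !![2, 2, 2, 2; 2, 2, 0, 2; 0, 1, 2, 0; 0, 0, 0, 1], by decide, by decide, by decide, by decide, by decide, map_zero _⟩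
    · exact ⟨!![1, 1, 1, 0; 0, 1, 2, 1; 0, 2, 2, 0; 2, 1, 0, 0], !![1, 0, 1, 0; 1, 0, 1, 1; 2, 0, 1, 2; 1, 1, 0, 1], !![1, 0, 2, 1; 0, 0, 0, 1; 0, 1, 1, 0; 2, 0, 0, 1], !![0, 1, 0, 2; 1, 1, 1, 1; 2, 2, 0, 2; 0, 1, 0, 0], by decide, by decide, by decide, by decide, by decide, map_zero _⟩
    · exact ⟨!![2, 2, 1, 0; 2, 0, 2, 1; 2, 0, 0, 1; 0, 2, 0, 0], !![2, 2, 1, 1; 0, 0, 0, 2; 0, 2, 1, 0; 2, 2, 2, 1], !![2, 1, 1, 1; 2, 0, 2, 1; 1, 1, 2, 1; 0, 1, 1, 1], !![2, 0, 0, 1; 2, 2, 1, 1; 1, 0, 1, 1; 0, 1, 1, 2], by decide, by decide, by decide, by decide, by decide, map_zero _⟩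
    · exact ⟨!![2, 2, 1, 0; 2, 0, 2, 1; 2, 0, 0, 1; 0, 2, 0, 0], !![2, 2, 1, 1; 0, 0, 0, 2; 0, 2, 1, 0; 2, 2, 2, 1], !![1, 0, 0, 2; 0, 0, 0, 1; 0, 2, 1, 1; 0, 0, 1, 0], !![1, 1, 0, 0; 0, 1, 2, 1; 0, 0, 0, 1; 0, 1, 0, 0], by decide, by decide, by decide, by decide, by decide, map_zero _⟩
  -- t = 0, t' = 1
  · rcases orex3_units D with rfl | rfl <;> rcases orex3_units E with rfl | rfl
    · exact ⟨!![1, 1, 0, 1; 1, 2, 0, 1; 1, 1, 0, 2; 0, 2, 2, 0], !![0, 2, 2, 0; 2, 1, 0, 0; 1, 2, 0, 2; 2, 0, 1, 0], !![0, 1, 1, 2; 1, 1, 0, 1; 1, 2, 0, 2; 0, 0, 0, 1], !![0, 2, 2, 0; 0, 2, 1, 2; 1, 1, 2, 2; 0, 0, 0, 1], by decide, by decide, by decide, by decide, by decide, map_zero _⟩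
    · exact ⟨!![1, 1, 0, 1; 1, 2, 0, 1; 1, 1, 0, 2; 0, 2, 2, 0], !![0, 2, 2, 0; 2, 1, 0, 0; 1, 2, 0, 2; 2, 0, 1, 0], !![2, 0, 0, 2; 0, 1, 0, 2; 0, 1, 1, 1; 0, 1, 0, 0], !![2, 1, 0, 2; 0, 0, 0, 1; 0, 1, 1, 1; 0, 2, 0, 1], by decide, by decide, by decide, by decide, by decide, map_zero _⟩
    · exact ⟨!![0, 1, 1, 1; 1, 2, 1, 2; 1, 1, 2, 0; 1, 0, 2, 2], !![2, 1, 2, 1; 2, 2, 1, 0; 1, 0, 2, 1; 1, 1, 0, 2], !![0, 0, 0, 1; 1, 2, 0, 0; 2, 0, 0, 0; 1, 0, 1, 2], !![0, 0, 2, 0; 0, 2, 2, 0; 1, 0, 1, 1; 1, 0, 0, 0], by decide, by decide, by decide, by decide, by decide, map_zero _⟩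
    · exact ⟨!![0, 1, 1, 1; 1, 2, 1, 2; 1, 1, 2, 0; 1, 0, 2, 2], !![2, 1, 2, 1; 2, 2, 1, 0; 1, 0, 2, 1; 1, 1, 0, 2], !![0, 0, 1, 2; 1, 2, 2, 2; 1, 1, 2, 0; 1, 0, 0, 1], !![1, 2, 2, 0; 2, 2, 0, 1; 0, 1, 1, 1; 2, 1, 1, 1], by decide, by decide, by decide, by decide, by decide, map_zero _⟩
  -- t = 0, t' = 2
  · rcases orex3_units D with rfl | rfl <;> rcases orex3_units E with rfl | rfl
    · exact ⟨!![0, 1, 2, 1; 2, 0, 2, 1; 1, 2, 0, 2; 2, 0, 2, 2], !![2, 2, 2, 2; 2, 0, 1, 1; 1, 2, 1, 2; 0, 2, 0, 1], !![2, 1, 2, 1; 2, 2, 2, 1; 1, 2, 2, 1; 0, 0, 1, 1], !![0, 1, 2, 0; 2, 1, 0, 0; 2, 0, 2, 2; 1, 0, 1, 2], by decide, by decide, by decide, by decide, by decide, map_zero _⟩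
    · exact ⟨!![1, 1, 1, 1; 1, 0, 1, 1; 0, 1, 1, 2; 1, 1, 2, 2], !![1, 1, 0, 2; 1, 2, 0, 0; 2, 2, 2, 2; 0, 1, 1, 2], !![0, 2, 1, 1; 2, 1, 1, 0; 1, 2, 0, 2; 0, 0, 0, 1], !![2, 1, 2, 0; 2, 1, 1, 2; 0, 1, 1, 1; 0, 0, 0, 1], by decide, by decide, by decide, by decide, by decide, map_zero _⟩
    · exact ⟨!![1, 2, 0, 0; 0, 0, 2, 1; 1, 0, 0, 0; 2, 2, 2, 0], !![0, 0, 1, 0; 2, 0, 1, 0; 1, 0, 1, 2; 1, 1, 1, 2], !![0, 2, 0, 2; 1, 0, 2, 1; 0, 1, 1, 0; 2, 0, 1, 0], !![1, 1, 1, 0; 2, 2, 0, 2; 1, 1, 1, 1; 0, 1, 0, 1], by decide, by decide, by decide, by decide, by decide, map_zero _⟩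
    · exact ⟨!![1, 2, 0, 0; 0, 0, 2, 1; 1, 0, 0, 0; 2, 2, 2, 0], !![0, 0, 1, 0; 2, 0, 1, 0; 1, 0, 1, 2; 1, 1, 1, 2], !![1, 2, 0, 0; 2, 1, 1, 2; 2, 2, 0, 0; 2, 0, 0, 1], !![2, 0, 1, 0; 1, 0, 1, 0; 0, 1, 1, 1; 2, 0, 1, 1], by decide, by decide, by decide, by decide, by decide, map_zero _⟩
  -- t = 1, t' = 0
  · rcases orex3_units D with rfl | rfl <;> rcases orex3_units E with rfl | rfl
    · exact ⟨!![0, 2, 2, 0; 2, 2, 2, 2; 0, 2, 0, 2; 1, 0, 0, 0], !![0, 0, 0, 1; 2, 1, 2, 1; 0, 2, 1, 2; 1, 2, 0, 2], !![1, 1, 1, 1; 2, 2, 0, 2; 1, 2, 2, 1; 0, 0, 1, 2], !![1, 2, 2, 1; 1, 2, 1, 0; 1, 1, 0, 0; 1, 1, 0, 2], by decide, by decide, by decide, by decide, by decide, map_zero _⟩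
    · exact ⟨!![0, 2, 2, 0; 2, 2, 2, 2; 0, 2, 0, 2; 1, 0, 0, 0], !![0, 0, 0, 1; 2, 1, 2, 1; 0, 2, 1, 2; 1, 2, 0, 2], !![2, 2, 1, 2; 1, 0, 0, 0; 2, 2, 0, 0; 0, 0, 0, 1], !![0, 1, 0, 0; 0, 2, 2, 0; 1, 0, 2, 1; 0, 0, 0, 1], by decide, by decide, by decide, by decide, by decide, map_zero _⟩
    · exact ⟨!![0, 0, 2, 0; 0, 2, 0, 1; 0, 0, 2, 1; 2, 1, 0, 2], !![0, 2, 0, 2; 2, 2, 1, 0; 2, 0, 0, 0; 2, 0, 1, 0], !![1, 0, 2, 0; 0, 1, 0, 2; 2, 2, 2, 1; 0, 0, 0, 1], !![2, 1, 1, 0; 0, 1, 0, 1; 1, 1, 1, 0; 0, 0, 0, 1], by decide, by decide, by decide, by decide, by decide, map_zero _⟩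
    · exact ⟨!![0, 0, 2, 0; 0, 2, 0, 1; 0, 0, 2, 1; 2, 1, 0, 2], !![0, 2, 0, 2; 2, 2, 1, 0; 2, 0, 0, 0; 2, 0, 1, 0], !![1, 2, 0, 2; 0, 2, 0, 0; 1, 2, 0, 1; 2, 0, 1, 0], !![2, 2, 2, 0; 0, 2, 0, 0; 2, 2, 2, 1; 1, 0, 2, 0], by decide, by decide, by decide, by decide, by decide, map_zero _⟩
  -- t = 1, t' = 1
  · rcases orex3_units D with rfl | rfl <;> rcases orex3_units E with rfl | rfl
    · exact ⟨!![0, 0, 0, 2; 1, 0, 1, 1; 0, 2, 2, 1; 2, 2, 0, 1], !![2, 2, 2, 1; 0, 1, 1, 1; 2, 2, 1, 2; 2, 0, 0, 0], !![1, 0, 1, 0; 0, 1, 0, 1; 0, 1, 1, 2; 0, 0, 0, 1], !![1, 1, 2, 1; 0, 1, 0, 2; 0, 2, 1, 2; 0, 0, 0, 1], by decide, by decide, by decide, by decide, by decide, map_zero _⟩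
    · exact ⟨!![0, 0, 0, 2; 1, 0, 1, 1; 0, 2, 2, 1; 2, 2, 0, 1], !![2, 2, 2, 1; 0, 1, 1, 1; 2, 2, 1, 2; 2, 0, 0, 0], !![0, 2, 0, 2; 2, 1, 1, 2; 0, 2, 0, 1; 0, 0, 1, 1], !![2, 2, 0, 1; 1, 0, 1, 0; 2, 0, 1, 1; 1, 0, 2, 0], by decide, by decide, by decide, by decide, by decide, map_zero _⟩
    · exact ⟨!![2, 0, 1, 0; 1, 0, 1, 0; 2, 1, 1, 2; 2, 2, 0, 2], !![1, 2, 0, 0; 2, 2, 2, 1; 2, 2, 0, 0; 0, 2, 1, 1], !![0, 2, 1, 2; 1, 2, 0, 0; 0, 2, 1, 1; 0, 1, 0, 0], !![0, 1, 0, 1; 0, 0, 0, 1; 2, 0, 2, 1; 1, 0, 2, 0], by decide, by decide, by decide, by decide, by decide, map_zero _⟩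
    · exact ⟨!![2, 0, 1, 0; 1, 0, 1, 0; 2, 1, 1, 2; 2, 2, 0, 2], !![1, 2, 0, 0; 2, 2, 2, 1; 2, 2, 0, 0; 0, 2, 1, 1], !![2, 2, 1, 0; 1, 2, 1, 2; 0, 1, 0, 2; 0, 0, 0, 1], !![1, 2, 0, 2; 0, 0, 1, 1; 2, 2, 1, 0; 0, 0, 0, 1], by decide, by decide, by decide, by decide, by decide, map_zero _⟩
  -- t = 1, t' = 2
  · rcases orex3_units D with rfl | rfl <;> rcases orex3_units E with rfl | rfl
    · exact ⟨!![1, 0, 0, 0; 0, 0, 1, 2; 2, 1, 2, 1; 1, 2, 1, 1], !![1, 0, 0, 0; 1, 1, 1, 0; 0, 1, 2, 2; 0, 0, 2, 2], !![1, 2, 2, 1; 0, 1, 1, 1; 0, 0, 1, 2; 0, 0, 1, 0], !![1, 1, 2, 1; 0, 1, 1, 1; 0, 0, 0, 1; 0, 0, 2, 1], by decide, by decide, by decide, by decide, by decide, map_zero _⟩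
    · exact ⟨!![1, 0, 0, 0; 0, 0, 1, 2; 2, 1, 2, 1; 1, 2, 1, 1], !![1, 0, 0, 0; 1, 1, 1, 0; 0, 1, 2, 2; 0, 0, 2, 2], !![1, 0, 1, 2; 2, 2, 1, 0; 2, 2, 2, 0; 0, 0, 0, 1], !![1, 1, 2, 1; 2, 0, 2, 2; 0, 2, 1, 0; 0, 0, 0, 1], by decide, by decide, by decide, by decide, by decide, map_zero _⟩
    · exact ⟨!![1, 1, 2, 0; 1, 0, 2, 1; 2, 0, 2, 1; 1, 1, 1, 2], !![0, 2, 1, 0; 0, 0, 1, 1; 2, 2, 2, 1; 2, 1, 1, 1], !![2, 2, 1, 0; 2, 0, 2, 1; 2, 0, 0, 1; 0, 0, 1, 2], !![0, 2, 0, 2; 2, 0, 1, 1; 0, 2, 1, 0; 0, 2, 1, 2], by decide, by decide, by decide, by decide, by decide, map_zero _⟩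
    · exact ⟨!![1, 1, 2, 0; 1, 0, 2, 1; 2, 0, 2, 1; 1, 1, 1, 2], !![0, 2, 1, 0; 0, 0, 1, 1; 2, 2, 2, 1; 2, 1, 1, 1], !![1, 0, 0, 0; 0, 2, 1, 2; 0, 0, 1, 1; 0, 0, 0, 1], !![1, 0, 0, 0; 0, 2, 1, 1; 0, 0, 1, 2; 0, 0, 0, 1], by decide, by decide, by decide, by decide, by decide, map_zero _⟩
  -- t = 2, t' = 0
  · rcases orex3_units D with rfl | rfl <;> rcases orex3_units E with rfl | rfl
    · exact ⟨!![2, 2, 1, 1; 0, 1, 0, 0; 1, 0, 1, 1; 2, 1, 0, 1], !![1, 1, 2, 0; 0, 1, 0, 0; 1, 2, 0, 2; 1, 0, 2, 1], !![2, 2, 2, 1; 2, 0, 0, 1; 1, 0, 2, 1; 0, 0, 1, 2], !![0, 0, 1, 1; 2, 0, 2, 1; 0, 1, 1, 2; 0, 1, 1, 1], by decide, by decide, by decide, by decide, by decide, map_zero _⟩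
    · exact ⟨!![2, 2, 1, 1; 0, 1, 0, 0; 1, 0, 1, 1; 2, 1, 0, 1], !![1, 1, 2, 0; 0, 1, 0, 0; 1, 2, 0, 2; 1, 0, 2, 1], !![0, 2, 2, 2; 2, 2, 0, 0; 0, 0, 1, 2; 0, 0, 0, 1], !![1, 2, 1, 2; 2, 0, 2, 1; 0, 0, 1, 1; 0, 0, 0, 1], by decide, by decide, by decide, by decide, by decide, map_zero _⟩
    · exact ⟨!![2, 0, 1, 2; 0, 1, 0, 1; 0, 1, 0, 0; 2, 2, 2, 1], !![1, 0, 1, 1; 0, 0, 1, 0; 2, 1, 0, 1; 0, 1, 2, 0], !![0, 2, 1, 0; 2, 2, 1, 2; 1, 1, 0, 1; 0, 0, 1, 2], !![1, 1, 2, 1; 2, 1, 1, 0; 0, 1, 1, 0; 0, 1, 1, 2], by decide, by decide, by decide, by decide, by decide, map_zero _⟩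
    · exact ⟨!![2, 0, 1, 2; 0, 1, 0, 1; 0, 1, 0, 0; 2, 2, 2, 1], !![1, 0, 1, 1; 0, 0, 1, 0; 2, 1, 0, 1; 0, 1, 2, 0], !![0, 0, 2, 2; 0, 1, 1, 1; 2, 2, 1, 1; 0, 0, 0, 1], !![1, 2, 2, 0; 1, 1, 0, 0; 2, 0, 0, 2; 0, 0, 0, 1], by decide, by decide, by decide, by decide, by decide, map_zero _⟩
  -- t = 2, t' = 1
  · rcases orex3_units D with rfl | rfl <;> rcases orex3_units E with rfl | rfl
    · exact ⟨!![2, 0, 2, 1; 1, 1, 0, 2; 0, 2, 2, 0; 1, 1, 2, 1], !![0, 2, 1, 2; 2, 2, 1, 0; 1, 1, 1, 0; 2, 0, 2, 2], !![2, 1, 0, 1; 1, 2, 2, 0; 1, 1, 2, 2; 0, 0, 1, 0], !![2, 1, 2, 0; 2, 0, 2, 2; 0, 0, 0, 1; 1, 1, 0, 1], by decide, by decide, by decide, by decide, by decide, map_zero _⟩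
    · exact ⟨!![1, 2, 1, 0; 0, 0, 1, 0; 1, 1, 2, 1; 2, 1, 0, 1], !![0, 2, 2, 1; 2, 0, 2, 1; 0, 1, 0, 0; 1, 2, 0, 1], !![0, 1, 2, 2; 0, 1, 0, 0; 1, 2, 2, 2; 0, 0, 1, 0], !![2, 2, 1, 0; 0, 1, 0, 0; 0, 0, 0, 1; 2, 1, 0, 2], by decide, by decide, by decide, by decide, by decide, map_zero _⟩
    · exact ⟨!![0, 0, 2, 0; 0, 1, 2, 2; 2, 0, 2, 1; 0, 0, 0, 1], !![1, 0, 2, 1; 2, 1, 0, 1; 2, 0, 0, 0; 0, 0, 0, 1], !![2, 2, 0, 2; 2, 0, 2, 0; 2, 0, 0, 0; 0, 1, 1, 0], !![0, 0, 2, 0; 0, 1, 2, 1; 0, 2, 1, 0; 2, 2, 2, 2], by decide, by decide, by decide, by decide, by decide, map_zero _⟩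
    · exact ⟨!![0, 0, 2, 0; 0, 1, 2, 2; 2, 0, 2, 1; 0, 0, 0, 1], !![1, 0, 2, 1; 2, 1, 0, 1; 2, 0, 0, 0; 0, 0, 0, 1], !![1, 2, 0, 2; 2, 0, 1, 1; 0, 0, 2, 2; 0, 1, 0, 0], !![0, 2, 2, 0; 0, 0, 0, 1; 1, 1, 0, 1; 2, 2, 2, 2], by decide, by decide, by decide, by decide, by decide, map_zero _⟩
  -- t = 2, t' = 2
  · rcases orex3_units D with rfl | rfl <;> rcases orex3_units E with rfl | rfl
    · exact ⟨!![1, 1, 0, 2; 2, 0, 1, 1; 2, 1, 1, 2; 1, 0, 0, 0], !![0, 0, 0, 1; 2, 1, 2, 1; 2, 0, 1, 2; 1, 1, 2, 2], !![1, 0, 1, 2; 1, 0, 0, 0; 2, 1, 0, 2; 0, 0, 0, 1], !![0, 1, 0, 0; 0, 1, 1, 1; 1, 2, 0, 1; 0, 0, 0, 1], by decide, by decide, by decide, by decide, by decide, map_zero _⟩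
    · exact ⟨!![1, 2, 1, 2; 1, 0, 1, 1; 1, 1, 2, 2; 2, 1, 0, 1], !![2, 2, 1, 1; 2, 0, 2, 1; 1, 0, 0, 1; 0, 2, 2, 1], !![0, 2, 2, 0; 0, 2, 1, 1; 2, 0, 0, 1; 0, 0, 0, 1], !![0, 0, 2, 1; 1, 1, 0, 2; 1, 2, 0, 1; 0, 0, 0, 1], by decide, by decide, by decide, by decide, by decide, map_zero _⟩
    · exact ⟨!![0, 2, 1, 0; 1, 2, 2, 0; 2, 2, 2, 1; 0, 2, 2, 0], !![0, 1, 0, 2; 1, 0, 0, 1; 2, 0, 0, 1; 0, 1, 1, 1], !![2, 0, 2, 1; 2, 0, 2, 0; 1, 0, 0, 1; 1, 1, 2, 0], !![2, 1, 1, 0; 2, 0, 1, 1; 1, 1, 2, 0; 1, 2, 0, 0], by decide, by decide, by decide, by decide, by decide, map_zero _⟩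
    · exact ⟨!![0, 2, 1, 0; 1, 2, 2, 0; 2, 2, 2, 1; 0, 2, 2, 0], !![0, 1, 0, 2; 1, 0, 0, 1; 2, 0, 0, 1; 0, 1, 1, 1], !![2, 2, 1, 0; 2, 0, 2, 1; 0, 0, 1, 1; 1, 0, 1, 0], !![0, 1, 2, 2; 2, 1, 2, 0; 0, 2, 1, 2; 0, 1, 0, 1], by decide, by decide, by decide, by decide, by decide, map_zero _⟩

end Cfsg.Agent.Lib.Helper19.ORE
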